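import Groth.Agent.InvExt.PicSurj

/-!
Surjectivity on Picard groups for a closed subscheme of dimension at most one meeting closed subsets
properly (EGA IV 21.9.11, without ampleness).
-/

set_option autoImplicit false
set_option backward.isDefEq.respectTransparency false

universe u

open CategoryTheory CategoryTheory.Limits AlgebraicGeometry TopologicalSpace Opposite
open Groth.Agent.QC (res resO res_res res_smul resO_resO app_res section_eq_of_locally)
open TMul (IsGen)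
open Groth.Agent.S7670 (exists_gen_preimage exists_isUnit_smul)

noncomputable section

namespace Groth.Agent.PicSurjDimOne

variable {X X₀ : Scheme.{u}}

/-- A closed set all of whose points are closed, in a Noetherian scheme, is finite. -/
lemma finite_of_isClosed_points [NoetherianSpace X] {E : Set X} (hE : IsClosed E)
    (hp : ∀ y ∈ E, IsClosed ({y} : Set X)) : E.Finite := by
  obtain ⟨T, hTfin, hTC, hTI, hTeq⟩ := NoetherianSpace.exists_finite_set_isClosed_irreducible hE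
  refine (Set.Finite.biUnion hTfin fun Z hZ => ?_).subset
    (fun y hy => by rw [hTeq, Set.sUnion_eq_biUnion] at hy; exact hy)
  obtain ⟨ξ, hξ⟩ := QuasiSober.sober (hTI Z hZ) (hTC Z hZ)
  rw [← hξ.def, (hp ξ (hTeq.ge ⟨Z, hZ, hξ.mem⟩)).closure_eq]
  exact Set.finite_singleton ξ

lemma isClosed_of_finite {S : Set X} (hS : S.Finite) (h : ∀ y ∈ S, IsClosed ({y} : Set X)) :
    IsClosed S := by
  rw [← Set.biUnion_of_singleton S]
  exact hS.isClosed_biUnion h

/-- The generic points of the irreducible components. -/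
def IsMax (η : X) : Prop := ∀ x : X, x ⤳ η → x = η

lemma exists_isMax (y : X) : ∃ η, IsMax η ∧ η ⤳ y := by
  obtain ⟨ξ, hξ⟩ := QuasiSober.sober
    (irreducibleComponent_mem_irreducibleComponents y).1 isClosed_irreducibleComponent
  refine ⟨ξ, fun x hx => ?_, hξ.specializes mem_irreducibleComponent⟩
  have hle : irreducibleComponent y ⊆ closure ({x} : Set X) := by
    rw [← hξ.def]
    exact specializes_iff_closure_subset.1 hx
  have h2 : closure ({x} : Set X) ⊆ irreducibleComponent y :=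
    (irreducibleComponent_mem_irreducibleComponents y).2 isIrreducible_singleton.closure hle
  exact ((hξ.specializes (h2 (subset_closure rfl))).antisymm hx).eq.symm

lemma finite_isMax [NoetherianSpace X] : {η : X | IsMax η}.Finite := by
  refine Set.Finite.of_finite_image (f := fun η : X => closure ({η} : Set X))
    ((NoetherianSpace.finite_irreducibleComponents (α := X)).subset ?_) ?_
  · rintro _ ⟨η, hη, rfl⟩
    refine ⟨isIrreducible_singleton.closure, fun Z hZ hle => ?_⟩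
    obtain ⟨ξ, hξ⟩ := QuasiSober.sober hZ.closure isClosed_closure
    have : ξ = η := hη ξ (hξ.specializes (subset_closure (hle (subset_closure rfl))))
    exact subset_closure.trans (this ▸ hξ.def.ge)
  · exact fun a ha b hb hab => hb a (specializes_iff_closure_subset.2 (le_of_eq (Eq.symm hab)))

lemma isClosed_singleton_of_not_isMax (hdim : topologicalKrullDim X ≤ 1) {y : X} (hy : ¬ IsMax y) :
    IsClosed ({y} : Set X) := by
  obtain ⟨η, hη, hηy⟩ := exists_isMax y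
  refine closure_subset_iff_isClosed.1 fun w hw => ?_
  rcases Groth.Agent.AmpleDimOne.eq_or_eq_of_specializes hdim hηy
    (specializes_iff_mem_closure.2 hw) with e | e
  · exact absurd (e ▸ hη) hy
  · exact e.symm

/-- An invertible module has a generator near all the generic points. -/
lemma exists_gen_max [NoetherianSpace X] {L : X.Modules} (hL : PicF.IsInvertible L) :
    ∃ (U : X.Opens) (s : Γ(L, U)), (∀ η, IsMax η → η ∈ U) ∧ IsGen s := by
  classical
  let κ := {η : X // IsMax η}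
  haveI : Finite κ := finite_isMax.to_subtype
  choose W₀ e₀ hW₀ he₀ using fun η : κ => TMul.exists_isGen hL η.1
  let D : κ → X.Opens := fun η => W₀ η ⊓ ⟨⋂ η' : κ, ⋂ (_ : η' ≠ η), (closure ({η'.1} : Set X))ᶜ,
    isOpen_iInter_of_finite fun _ => isOpen_iInter_of_finite fun _ => isClosed_closure.isOpen_compl⟩
  have hmem : ∀ {η : κ} {y : X}, y ∈ D η → ∀ η' : κ, η' ≠ η → y ∉ closure ({η'.1} : Set X) :=
    fun {η y} hy η' hne => Set.mem_iInter₂.1 hy.2 η' hne
  have hdisj : ∀ η η' : κ, η ≠ η' → ∀ y ∈ D η, y ∉ D η' := fun η η' hne y hy hy' => by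
    obtain ⟨ξ, hξ, hξy⟩ := exists_isMax y
    have : (⟨ξ, hξ⟩ : κ) = η := by
      by_contra h
      exact hmem hy _ h (specializes_iff_mem_closure.1 hξy)
    exact hmem hy' ⟨ξ, hξ⟩ (this ▸ hne) (specializes_iff_mem_closure.1 hξy)
  obtain ⟨s, hs, -⟩ := TopCat.Sheaf.existsUnique_gluing' (Groth.Agent.QC.abSheaf L) D (iSup D)
    (fun η => homOfLE (le_iSup D η)) le_rfl (fun η => res L inf_le_left (e₀ η))
    (fun η η' => by
      by_cases h : η = η'
      · subst h; rfl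
      · exact section_eq_of_locally (M := L) fun y hy => absurd hy.2 (hdisj η η' h y hy.1))
  refine ⟨iSup D, s, fun η hη => Opens.mem_iSup.2 ⟨⟨η, hη⟩, hW₀ _, Set.mem_iInter₂.2 fun η' hne h =>
    hne (Subtype.ext (hη _ (specializes_iff_mem_closure.2 h)))⟩,
    Groth.Agent.UfdExtend.isGen_of_locally fun y hy => ?_⟩
  obtain ⟨η, hη⟩ := Opens.mem_iSup.1 hy
  refine ⟨D η, le_iSup D η, hη, ?_⟩
  rw [show res L (le_iSup D η) s = res L inf_le_left (e₀ η) from hs η]
  exact (he₀ η).res _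

/-- Closed points of the closed subscheme can be isolated by locally closed subsets that are closed. -/
def Isolates (i : X₀ ⟶ X) : Prop :=
  ∀ (Y : Set X) (z : X₀), IsLocallyClosed Y → IsClosed ({i z} : Set X) → Y ∩ Set.range i = {i z} →
    ∃ O : Set X, IsOpen O ∧ i z ∈ O ∧ IsClosed (Y ∩ O)

theorem exists_pullback_iso [IsNoetherian X] (i : X₀ ⟶ X) [IsClosedImmersion i]
    (hdim : topologicalKrullDim X₀ ≤ 1) (hiso : Isolates i) (L : X₀.Modules) (hL : PicF.IsInvertible L) :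
    ∃ N : X.Modules, PicF.IsInvertible N ∧ Nonempty ((Scheme.Modules.pullback i).obj N ≅ L) := by
  classical
  haveI : NoetherianSpace X₀ := i.isClosedEmbedding.isInducing.noetherianSpace
  obtain ⟨U₁, s₀, hU₁, hs₀⟩ := exists_gen_max hL
  have hnm : ∀ z, z ∉ U₁ → ¬ IsMax z := fun z hz h => hz (hU₁ z h)
  have hzcl : ∀ z, z ∉ U₁ → IsClosed ({z} : Set X₀) := fun z hz =>
    isClosed_singleton_of_not_isMax hdim (hnm z hz)
  have hizcl : ∀ z, z ∉ U₁ → IsClosed ({i z} : Set X) := fun z hz => by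
    rw [← Set.image_singleton]
    exact i.isClosedEmbedding.isClosedMap _ (hzcl z hz)
  have hFfin : ((U₁ : Set X₀)ᶜ).Finite := finite_of_isClosed_points U₁.2.isClosed_compl hzcl
  let κ := {z : X₀ // z ∉ U₁}
  haveI : Finite κ := hFfin.to_subtype
  choose W₀ e₀ hW₀ he₀ using fun z : κ => exists_gen_preimage i hL (i z.1)
  -- local equations
  have hloc : ∀ z : κ, ∃ (W : X.Opens) (hW₀ : W ≤ W₀ z) (f g : Γ(X, W)),
      i z.1 ∈ W ∧ (∀ y ∈ i ⁻¹ᵁ W, y ∉ U₁ → y = z.1) ∧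
      i ⁻¹ᵁ X.basicOpen (f * g) = i ⁻¹ᵁ W ⊓ U₁ ∧
      resO X₀ (inf_le_left : i ⁻¹ᵁ W ⊓ U₁ ≤ i ⁻¹ᵁ W) (i.app W g) •
          res L (inf_le_right : i ⁻¹ᵁ W ⊓ U₁ ≤ U₁) s₀ =
        resO X₀ (inf_le_left : i ⁻¹ᵁ W ⊓ U₁ ≤ i ⁻¹ᵁ W) (i.app W f) •
          res L (inf_le_left.trans (i.preimage_mono hW₀)) (e₀ z) := by
    intro z
    obtain ⟨W₁, hW₁, hzW₁, hW₁le⟩ := exists_isAffineOpen_mem_and_subset (x := i z.1)
      (U := W₀ z ⊓ ⟨(i '' ((U₁ : Set X₀)ᶜ \ {z.1}))ᶜ,
        (i.isClosedEmbedding.isClosedMap _ (isClosed_of_finite (hFfin.subset Set.diff_subset) fun y hy => hzcl y hy.1)).isOpen_compl⟩)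
      ⟨hW₀ z, fun ⟨y, hy, hyz⟩ => hy.2 (i.isClosedEmbedding.injective hyz)⟩
    have hle₀ : W₁ ≤ W₀ z := fun y hy => (hW₁le hy).1
    have hone : ∀ y ∈ i ⁻¹ᵁ W₁, y ∉ U₁ → y = z.1 := fun y hy hyU => by
      by_contra hne
      exact (hW₁le hy).2 ⟨y, ⟨hyU, hne⟩, rfl⟩
    -- a function vanishing at `z` and at no generic point
    have hN : IsAffineOpen (i ⁻¹ᵁ W₁) := hW₁.preimage i
    let P : Finset X₀ := (finite_isMax (X := X₀)).toFinset.filter (· ∈ i ⁻¹ᵁ W₁)
    let q : X₀ → Ideal Γ(X₀, i ⁻¹ᵁ W₁) := fun y =>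
      if hy : y ∈ i ⁻¹ᵁ W₁ then (hN.primeIdealOf ⟨y, hy⟩).asIdeal else ⊤
    obtain ⟨r, hrz, hrP⟩ : ∃ r, r ∈ q z.1 ∧ ∀ y ∈ P, r ∉ q y := by
      by_contra! H
      obtain ⟨y, hy, hle⟩ := (Ideal.subset_union_prime (s := P) z.1 z.1 (fun y hy _ _ => by
        show (q y).IsPrime
        rw [show q y = _ from dif_pos (Finset.mem_filter.1 hy).2]
        exact (hN.primeIdealOf _).2)).1 (fun r hr => by
          obtain ⟨y, hy, h⟩ := H r hr
          exact Set.mem_iUnion₂.2 ⟨y, hy, h⟩)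
      have hyW : y ∈ i ⁻¹ᵁ W₁ := (Finset.mem_filter.1 hy).2
      have hzW : z.1 ∈ i ⁻¹ᵁ W₁ := hzW₁
      simp only [q, dif_pos hyW, dif_pos hzW] at hle
      have hsp : z.1 ⤳ y := by
        have := ((PrimeSpectrum.le_iff_specializes _ _).1 hle).map hN.fromSpec.continuous
        rwa [hN.fromSpec_primeIdealOf, hN.fromSpec_primeIdealOf] at this
      have hymax : IsMax y := (Set.Finite.mem_toFinset _).1 (Finset.mem_filter.1 hy).1
      exact hnm z.1 z.2 (hymax z.1 hsp ▸ hymax)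
    have hbo : ∀ y (hy : y ∈ i ⁻¹ᵁ W₁), y ∈ X₀.basicOpen r ↔ r ∉ q y := fun y hy => by
      have e := hN.fromSpec_primeIdealOf ⟨y, hy⟩
      simp only [q, dif_pos hy]
      conv_lhs => rw [show y = hN.fromSpec (hN.primeIdealOf ⟨y, hy⟩) from e.symm]
      change hN.primeIdealOf ⟨y, hy⟩ ∈ hN.fromSpec ⁻¹ᵁ X₀.basicOpen r ↔ _
      rw [hN.fromSpec_preimage_basicOpen]
      rfl
    let G : Set X₀ := {y | y ∈ i ⁻¹ᵁ W₁ ∧ y ∉ X₀.basicOpen r ∧ y ≠ z.1}
    have hGcl : ∀ y ∈ G, IsClosed ({y} : Set X₀) := fun y hy =>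
      isClosed_singleton_of_not_isMax hdim fun hmax => hy.2.1 ((hbo y hy.1).2
        (hrP y (Finset.mem_filter.2 ⟨(Set.Finite.mem_toFinset _).2 hmax, hy.1⟩)))
    have hGfin : G.Finite := by
      refine (finite_of_isClosed_points (E := closure G) isClosed_closure fun y hy => ?_).subset subset_closure
      refine isClosed_singleton_of_not_isMax hdim fun hmax => ?_
      by_cases hyW : y ∈ i ⁻¹ᵁ W₁
      · have hyr : y ∈ X₀.basicOpen r :=
          (hbo y hyW).2 (hrP y (Finset.mem_filter.2 ⟨(Set.Finite.mem_toFinset _).2 hmax, hyW⟩))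
        obtain ⟨w, hw1, hw2⟩ := mem_closure_iff.1 hy _ (X₀.basicOpen r).2 hyr
        exact hw2.2.1 hw1
      · obtain ⟨w, hw1, hw2⟩ := mem_closure_iff.1 hy
          (⋂ η ∈ ({η : X₀ | IsMax η} \ {y}), (closure ({η} : Set X₀))ᶜ)
          ((finite_isMax.subset Set.diff_subset).isOpen_biInter fun _ _ => isClosed_closure.isOpen_compl)
          (Set.mem_iInter₂.2 fun η hη h => hη.2 ((hmax η (specializes_iff_mem_closure.2 h))))
        obtain ⟨ξ, hξ, hξw⟩ := exists_isMax w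
        by_cases h : ξ = y
        · subst h
          exact hyW (hξw.mem_open (i ⁻¹ᵁ W₁).2 hw2.1)
        · exact Set.mem_iInter₂.1 hw1 ξ ⟨hξ, h⟩ (specializes_iff_mem_closure.1 hξw)
    obtain ⟨W, hW, hzW, hWle⟩ := exists_isAffineOpen_mem_and_subset (x := i z.1)
      (U := W₁ ⊓ ⟨(i '' G)ᶜ, (i.isClosedEmbedding.isClosedMap _
        (isClosed_of_finite hGfin hGcl)).isOpen_compl⟩)
      ⟨hzW₁, fun ⟨y, hy, hyz⟩ => hy.2.2 (i.isClosedEmbedding.injective hyz)⟩
    have hle₁ : W ≤ W₁ := fun y hy => (hWle hy).1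
    let r' : Γ(X₀, i ⁻¹ᵁ W) := resO X₀ (i.preimage_mono hle₁) r
    have hD : X₀.basicOpen r' = i ⁻¹ᵁ W ⊓ U₁ := by
      rw [show X₀.basicOpen r' = i ⁻¹ᵁ W ⊓ X₀.basicOpen r from Scheme.basicOpen_res _ r _]
      refine le_antisymm ?_ ?_
      · refine fun y hy => ⟨hy.1, by_contra fun hyU => ?_⟩
        have e := hone y (i.preimage_mono hle₁ hy.1) hyU
        subst e
        exact (hbo _ (i.preimage_mono hle₁ hy.1)).1 hy.2 hrz
      · refine fun y hy => ⟨hy.1, by_contra fun hyr => ?_⟩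
        exact (hWle hy.1).2 ⟨y, ⟨i.preimage_mono hle₁ hy.1, hyr,
          fun h => z.2 (h ▸ hy.2)⟩, rfl⟩
    obtain ⟨k, hk, hke⟩ := exists_isUnit_smul
      ((he₀ z).res (inf_le_left.trans (i.preimage_mono (hle₁.trans hle₀)) : i ⁻¹ᵁ W ⊓ U₁ ≤ i ⁻¹ᵁ W₀ z))
      (hs₀.res (inf_le_right : i ⁻¹ᵁ W ⊓ U₁ ≤ U₁))
    haveI := (hW.preimage i).isLocalization_basicOpen r'
    obtain ⟨⟨a, ⟨_, n, rfl⟩⟩, hak⟩ := IsLocalization.surj (Submonoid.powers r')
      (resO X₀ hD.le k : Γ(X₀, X₀.basicOpen r'))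
    -- `a` and `r' ^ (n + 1)` are the two equations
    obtain ⟨f, hf⟩ := i.app_surjective W hW (a * r')
    obtain ⟨g, hg⟩ := i.app_surjective W hW (r' ^ (n + 1))
    have hak' : k * resO X₀ (inf_le_left : i ⁻¹ᵁ W ⊓ U₁ ≤ i ⁻¹ᵁ W) (r' ^ n) =
        resO X₀ (inf_le_left : i ⁻¹ᵁ W ⊓ U₁ ≤ i ⁻¹ᵁ W) a := by
      have e := congrArg (resO X₀ hD.ge) hak
      rw [map_mul, resO_resO, Groth.Agent.QC.resO_self] at e
      refine Eq.trans ?_ (e.trans ?_)
      · exact congrArg (k * ·) (resO_resO hD.ge (X₀.basicOpen_le r') _).symm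
      · exact resO_resO hD.ge (X₀.basicOpen_le r') a
    have hru : IsUnit (resO X₀ (inf_le_left : i ⁻¹ᵁ W ⊓ U₁ ≤ i ⁻¹ᵁ W) r') := by
      have := (X₀.toRingedSpace.isUnit_res_basicOpen r').map (resO X₀ hD.ge)
      exact (congrArg IsUnit (resO_resO hD.ge (X₀.basicOpen_le r') r')).mp this
    refine ⟨W, hle₁.trans hle₀, f, g, hzW, fun y hy hyU => hone y (i.preimage_mono hle₁ hy) hyU, ?_, ?_⟩
    · rw [Scheme.preimage_basicOpen, map_mul, hf, hg]
      have hau : X₀.basicOpen r' ≤ X₀.basicOpen a := by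
        intro y hy
        have hu : IsUnit (resO X₀ (inf_le_left : i ⁻¹ᵁ W ⊓ U₁ ≤ i ⁻¹ᵁ W) a) := by
          rw [← hak', map_pow]
          exact hk.mul (hru.pow n)
        have hy' := hD.le hy
        rw [X₀.mem_basicOpen a y hy'.1]
        have := hu.map (X₀.presheaf.germ _ y hy').hom
        rwa [show (X₀.presheaf.germ _ y hy').hom (resO X₀ _ a) = X₀.presheaf.germ _ y hy'.1 a from
          TopCat.Presheaf.germ_res_apply X₀.presheaf _ y hy' a] at this
      rw [X₀.basicOpen_mul, X₀.basicOpen_mul, X₀.basicOpen_pow _ (Nat.succ_pos n), ← hD, inf_assoc,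
        inf_idem, inf_eq_right.2 hau]
    · rw [hf, hg, ← hke, smul_smul]
      congr 1
      rw [map_mul, map_pow, ← hak', map_pow, pow_succ]
      ring
  choose W hWle f g hzW hone hfg heq using hloc
  -- the closed sets
  let Y : κ → Set X := fun z => (W z : Set X) \ (X.basicOpen (f z * g z) : Set X)
  have hYlc : ∀ z, IsLocallyClosed (Y z) := fun z =>
    (W z).2.isLocallyClosed.inter (X.basicOpen _).2.isClosed_compl.isLocallyClosed
  have hYr : ∀ z, Y z ∩ Set.range i = {i z.1} := fun z => by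
    ext x
    constructor
    · rintro ⟨⟨hxW, hxf⟩, y, rfl⟩
      refine congrArg i (hone z y hxW fun hyU => hxf ?_)
      exact ((hfg z).ge ⟨hxW, hyU⟩ : y ∈ i ⁻¹ᵁ X.basicOpen _)
    · rintro rfl
      exact ⟨⟨hzW z, fun h => z.2 ((hfg z).le (h : z.1 ∈ i ⁻¹ᵁ X.basicOpen _)).2⟩, z.1, rfl⟩
  choose O₁ hO₁ hzO₁ hY₁ using fun z => hiso (Y z) z.1 (hYlc z) (hizcl z.1 z.2) (hYr z)
  have hcl' : ∀ z : κ, IsClosed (⋃ w ∈ {w : κ | w ≠ z}, Y w ∩ O₁ w) := fun z =>
    (Set.toFinite _).isClosed_biUnion fun w _ => hY₁ w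
  have hnot : ∀ z w : κ, w ≠ z → i z.1 ∉ Y w ∩ O₁ w := fun z w hne h => by
    have := (hYr w).le ⟨h.1, z.1, rfl⟩
    exact hne (Subtype.ext (i.isClosedEmbedding.injective this)).symm
  let W₂ : κ → X.Opens := fun z => W z ⊓ ⟨O₁ z ∩ (⋃ w ∈ {w : κ | w ≠ z}, Y w ∩ O₁ w)ᶜ,
    (hO₁ z).inter (hcl' z).isOpen_compl⟩
  have hzW₂ : ∀ z, i z.1 ∈ W₂ z := fun z => ⟨hzW z, hzO₁ z, fun h => by
    obtain ⟨w, hw, h'⟩ := Set.mem_iUnion₂.1 h
    exact hnot z w hw h'⟩
  choose O₂ hO₂ hzO₂ hY₂ using fun z => hiso (Y z ∩ W₂ z) z.1 ((hYlc z).inter (W₂ z).2.isLocallyClosed)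
    (hizcl z.1 z.2) (by
      rw [Set.inter_right_comm, hYr]
      exact Set.inter_eq_left.2 (Set.singleton_subset_iff.2 (hzW₂ z)))
  let W' : κ → X.Opens := fun z => W₂ z ⊓ ⟨O₂ z, hO₂ z⟩
  let V : X.Opens := ⟨(⋃ z, Y z ∩ W₂ z ∩ O₂ z)ᶜ, (isClosed_iUnion_of_finite hY₂).isOpen_compl⟩
  have hsep : ∀ (z w : κ), w ≠ z → ∀ x ∈ W₂ z, x ∉ Y w ∩ W₂ w := fun z w hne x hx h =>
    hx.2.2 (Set.mem_iUnion₂.2 ⟨w, hne, h.1, h.2.2.1⟩)
  have hWV : ∀ z, W' z ⊓ V ≤ X.basicOpen (f z * g z) := fun z x hx => by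
    by_contra h
    exact hx.2 (Set.mem_iUnion.2 ⟨z, ⟨⟨hx.1.1.1, h⟩, hx.1.1⟩, hx.1.2⟩)
  have hzV : ∀ z : κ, i z.1 ∉ V := fun z h => h (Set.mem_iUnion.2 ⟨z, ⟨((hYr z).ge rfl).1, hzW₂ z⟩, hzO₂ z⟩)
  have hVU : i ⁻¹ᵁ V = U₁ := by
    ext y
    constructor
    · intro hy
      by_contra hyU
      exact hzV ⟨y, hyU⟩ hy
    · intro hy h
      obtain ⟨z, hz⟩ := Set.mem_iUnion.1 h
      have := (hYr z).le ⟨hz.1.1, y, rfl⟩
      exact z.2 (i.isClosedEmbedding.injective this ▸ hy)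
  let F : X.Modules := (Scheme.Modules.pushforward i).obj L
  let sV : Γ(F, V) := res L hVU.le s₀
  obtain ⟨F', π', ht, hlift⟩ := Groth.Agent.InvExt.exists_lift (F := F) (κ := PUnit.{u + 1})
    (W := fun _ => V) (fun _ => sV) fun a b h => absurd (Subsingleton.elim a b) h
  obtain ⟨t, htg, htπ⟩ := ht PUnit.unit
  have hp : ∀ z, ∃ p : Γ(F', W' z),
      IsGen (N := L) (U := i ⁻¹ᵁ W' z) (π'.app (W' z) p) ∧
      IsGen (res F' (inf_le_left : W' z ⊓ V ≤ W' z) p) := fun z => by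
    have hW' : W' z ≤ W z := inf_le_left.trans inf_le_left
    have hle : W' z ⊓ V ≤ X.basicOpen (f z * g z) := hWV z
    have hu : IsUnit (resO X (inf_le_left.trans hW' : W' z ⊓ V ≤ W z) (f z * g z)) := by
      have := (X.toRingedSpace.isUnit_res_basicOpen (f z * g z)).map (resO X hle)
      exact (congrArg IsUnit (resO_resO hle (X.basicOpen_le _) _)).mp this
    rw [map_mul, IsUnit.mul_iff] at hu
    obtain ⟨fi, hfi⟩ := hu.1.exists_left_inv
    let c : Γ(X, W' z ⊓ V) := resO X (inf_le_left.trans hW') (g z) * fi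
    have hc : IsUnit c := hu.2.mul (IsUnit.of_mul_eq_one _ hfi)
    obtain ⟨p, hpπ, hpg⟩ := hlift (W' z)
      (res L (i.preimage_mono (hW'.trans (hWle z))) (e₀ z) : Γ(F, W' z)) (fun _ => c) (fun _ => hc)
      fun _ => by
        have hJ : i ⁻¹ᵁ (W' z ⊓ V) ≤ i ⁻¹ᵁ W z ⊓ U₁ :=
          fun y hy => ⟨hW' hy.1, hVU.le hy.2⟩
        have e := congrArg (res L hJ) (heq z)
        rw [res_smul, res_smul, res_res, res_res, resO_resO, resO_resO] at e
        change res L (i.preimage_mono (inf_le_left : W' z ⊓ V ≤ W' z))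
            (res L (i.preimage_mono (hW'.trans (hWle z))) (e₀ z)) =
          (i.app (W' z ⊓ V)).hom c • res L (i.preimage_mono (inf_le_right : W' z ⊓ V ≤ V)) (res L hVU.le s₀)
        rw [res_res, res_res]
        have happ : ∀ x : Γ(X, W z), (i.app (W' z ⊓ V)).hom (resO X (inf_le_left.trans hW') x) =
            resO X₀ (hJ.trans inf_le_left) ((i.app (W z)).hom x) := fun x =>
          ConcreteCategory.congr_hom (i.naturality (homOfLE (inf_le_left.trans hW' : W' z ⊓ V ≤ W z)).op) x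
        have hfi' := congrArg (i.app (W' z ⊓ V)).hom hfi
        rw [map_mul, map_one, happ] at hfi'
        rw [map_mul, happ, mul_comm, mul_smul, e, smul_smul, hfi', one_smul]
    refine ⟨p, ?_, hpg PUnit.unit⟩
    rw [hpπ]
    exact (he₀ z).res _
  choose p hpL hp using hp
  obtain ⟨N, π, hNi, hπW, hπV⟩ := Groth.Agent.InvExt.exists_hom_push (V := V) (F := F') p hp
    (fun z w hne x hx => by
      rintro h
      obtain ⟨v, hv⟩ := Set.mem_iUnion.1 h
      by_cases hvz : v = z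
      · subst hvz
        exact hsep w v hne x hx.2.1 hv.1
      · exact hsep z v hvz x hx.1.1 hv.1)
    (fun x hx => ⟨V, t, hx, le_rfl, htg⟩)
    fun x hx => by
      obtain ⟨z, hz⟩ := Set.mem_iUnion.1 (not_not.1 hx)
      exact ⟨z, hz.1.2, hz.2⟩
  let adj := Scheme.Modules.pullbackPushforwardAdjunction i
  let ψ : (Scheme.Modules.pullback i).obj N ⟶ L := (adj.homEquiv N L).symm (π ≫ π')
  have hψ : ∀ (O : X.Opens) (s : Γ(N, O)),
      ψ.app (i ⁻¹ᵁ O) ((adj.unit.app N).app O s) = π'.app O (π.app O s) := fun O s => by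
    have h : adj.homEquiv N L ψ = π ≫ π' := Equiv.apply_symm_apply _ _
    rw [Adjunction.homEquiv_unit] at h
    exact congrArg (fun q : N ⟶ F => q.app O s) h
  haveI : IsIso ψ := Groth.Agent.InvExt.isIso_of_hits_gen (PicLoc.isInvertible_pullback i hNi) ψ fun x => by
    by_cases hx : i x ∈ V
    · obtain ⟨O, e, hxO, hOV, he⟩ := hπV (i x) hx
      refine ⟨i ⁻¹ᵁ O, (adj.unit.app N).app _ e, hxO, ?_⟩
      rw [hψ]
      obtain ⟨k, hk, hke⟩ := exists_isUnit_smul (htg.res hOV) he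
      rw [← hke, Scheme.Modules.Hom.app_smul, ← app_res, htπ]
      exact Groth.Agent.UfdExtend.isGen_unit_smul ((hs₀.res hVU.le).res (i.preimage_mono hOV))
        (hk.map (i.app O).hom)
    · have hxU : x ∉ U₁ := fun h => hx (hVU.ge h)
      obtain ⟨e, he⟩ := hπW ⟨x, hxU⟩
      refine ⟨i ⁻¹ᵁ W' ⟨x, hxU⟩, (adj.unit.app N).app _ e, ⟨hzW₂ ⟨x, hxU⟩, hzO₂ ⟨x, hxU⟩⟩, ?_⟩
      rw [hψ, he]
      exact hpL _
  exact ⟨N, hNi, ⟨asIso ψ⟩⟩

lemma isClosed_connectedComponentIn' {T : Type*} [TopologicalSpace T] {C : Set T} (hC : IsClosed C)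
    (x : T) : IsClosed (connectedComponentIn C x) := by
  by_cases hx : x ∈ C
  · rw [connectedComponentIn_eq_image hx]
    exact hC.isClosedEmbedding_subtypeVal.isClosedMap _ isClosed_connectedComponent
  · rw [connectedComponentIn_eq_empty hx]
    exact isClosed_empty

lemma isOpen_connectedComponent' {T : Type*} [TopologicalSpace T] [NoetherianSpace T] (c : T) :
    IsOpen (connectedComponent c) := by
  have h : (connectedComponent c)ᶜ =
      ⋃ Z ∈ {Z ∈ irreducibleComponents T | Disjoint Z (connectedComponent c)}, Z := by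
    refine Set.Subset.antisymm (fun x hx => Set.mem_iUnion₂.2 ⟨irreducibleComponent x,
      ⟨irreducibleComponent_mem_irreducibleComponents x, ?_⟩, mem_irreducibleComponent⟩)
      (Set.iUnion₂_subset fun Z hZ => hZ.2.subset_compl_right)
    refine Set.disjoint_left.2 fun y hy hy' => hx ?_
    rw [connectedComponent_eq hy', ← connectedComponent_eq
      (isIrreducible_irreducibleComponent.isPreirreducible.isPreconnected.subset_connectedComponent
        mem_irreducibleComponent hy)]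
    exact mem_connectedComponent
  rw [← isClosed_compl_iff, h]
  exact (NoetherianSpace.finite_irreducibleComponents.subset fun _ h => h.1).isClosed_biUnion
    fun Z hZ => isClosed_of_mem_irreducibleComponents _ hZ.1

/-- Connected closed subsets meeting the closed subscheme connectedly isolate its closed points. -/
theorem isolates_of_connected [NoetherianSpace X] (i : X₀ ⟶ X)
    (hb : ∀ Y : Set X, IsClosed Y → Y.Nonempty → _root_.IsConnected Y →
      (Y ∩ Set.range i).Nonempty ∧ _root_.IsConnected (Y ∩ Set.range i)) : Isolates i := by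
  intro Y z hY hz hYz
  have hzY : i z ∈ Y := (hYz.ge rfl).1
  obtain ⟨U, C, hU, hC, rfl⟩ := hY
  let D := connectedComponentIn C (i z)
  have hzD : i z ∈ D := mem_connectedComponentIn hzY.2
  have hDcl : IsClosed D := isClosed_connectedComponentIn' hC _
  have hDr : D ∩ Set.range i = {i z} := by
    have hconn := (hb D hDcl ⟨_, hzD⟩ (isConnected_connectedComponentIn_iff.2 hzY.2)).2
    refine Set.Subset.antisymm ?_ (Set.singleton_subset_iff.2 ⟨hzD, z, rfl⟩)
    intro x hx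
    by_contra hxz
    obtain ⟨w, hwD, hw1, hw2⟩ := hconn.2 U {i z}ᶜ hU hz.isOpen_compl
      (fun y _ => by
        by_cases h : y = i z
        · exact Or.inl (h ▸ hzY.1)
        · exact Or.inr h)
      ⟨i z, ⟨hzD, z, rfl⟩, hzY.1⟩ ⟨x, hx, hxz⟩
    exact hw2 (hYz.le ⟨⟨hw1, connectedComponentIn_subset _ _ hwD.1⟩, hwD.2⟩)
  have hDU : D ⊆ U := by
    intro x hxD
    by_contra hxU
    let E := connectedComponentIn (D \ U) x
    obtain ⟨⟨w, hwE, hwr⟩, -⟩ := hb E (isClosed_connectedComponentIn' (hDcl.sdiff hU) _)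
      ⟨x, mem_connectedComponentIn ⟨hxD, hxU⟩⟩ (isConnected_connectedComponentIn_iff.2 ⟨hxD, hxU⟩)
    have hw := connectedComponentIn_subset _ _ hwE
    have : w = i z := hDr.le ⟨hw.1, hwr⟩
    exact hw.2 (this ▸ hzY.1)
  -- `D` is open in `C`
  have hopen : IsOpen (connectedComponent (⟨i z, hzY.2⟩ : C)) :=
    isOpen_connectedComponent' _
  obtain ⟨O, hO, hOeq⟩ := isOpen_induced_iff.1 hopen
  have hDeq : D = C ∩ O := by
    rw [show D = _ from connectedComponentIn_eq_image hzY.2, ← hOeq, Subtype.image_preimage_coe]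
  refine ⟨O, hO, (hDeq.le hzD).2, ?_⟩
  rw [Set.inter_assoc, ← hDeq, Set.inter_eq_right.2 hDU]
  exact hDcl

end Groth.Agent.PicSurjDimOne
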